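import Cfsg.Agent.OrderType.Small
import Mathlib.Tactic.IntervalCases

/-!
The group `AΓL₁(8)` of order 168 with its numbers of solutions of `g ^ N = 1`.
-/

set_option autoImplicit false
set_option linter.style.haveILetI false

namespace CfsgLib.OrderType

/-- Data of the group of order 21. -/
abbrev D21 : Dat := ⟨3, 1, [(7, 2, 1)]⟩

instance : Fact D21.Ok := ⟨by decide +kernel⟩

instance {D : Dat} [Fact D.Ok] : DecidableEq (Diag D) := fun x y =>
  decidable_of_iff (x.v = y.v ∧ x.a = y.a) Diag.ext_iff.symm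

instance {D : Dat} [Fact D.Ok] : Fintype (Diag D) :=
  Fintype.ofEquiv _ (Diag.toProd (D := D)).symm

namespace Aff

open M3

/-- A Singer element of `GL₃(2)`. -/
def X : M3 := ⟨(0, 1, 0), (0, 0, 1), (1, 1, 0)⟩

/-- An element normalising it. -/
def F : M3 := ⟨(0, 0, 1), (1, 0, 1), (1, 1, 0)⟩

/-- The representation of the group of order 21. -/
def ι (h : Diag D21) : M3 := X ^ (h.v ⟨0, by decide⟩).val * F ^ h.a.1.val

theorem ι_mul : ∀ h k : Diag D21, ι (h * k) = ι h * ι k := by decide +kernel

theorem ι_one : ι 1 = 1 := by decide +kernel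

/-- The carrier. -/
@[ext] structure G168 where
  b : V3
  h : Diag D21

instance : DecidableEq G168 := fun x y =>
  decidable_of_iff (x.b = y.b ∧ x.h = y.h) G168.ext_iff.symm

instance : Fintype G168 := Fintype.ofEquiv (V3 × Diag D21)
  { toFun := fun p => ⟨p.1, p.2⟩
    invFun := fun x => (x.b, x.h)
    left_inv := fun _ => rfl
    right_inv := fun _ => rfl }

instance : Mul G168 := ⟨fun x y => ⟨vmul x.b (ι y.h) + y.b, x.h * y.h⟩⟩
instance : One G168 := ⟨⟨0, 1⟩⟩
instance : Inv G168 := ⟨fun x => ⟨-vmul x.b (ι x.h⁻¹), x.h⁻¹⟩⟩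

theorem vmul_zero (A : M3) : vmul 0 A = 0 := by simp [vmul, Prod.ext_iff]

instance : Group G168 where
  mul_assoc x y z := by
    refine G168.ext ?_ (mul_assoc _ _ _)
    show vmul (vmul x.b (ι y.h) + y.b) (ι z.h) + z.b =
      vmul x.b (ι (y.h * z.h)) + (vmul y.b (ι z.h) + z.b)
    rw [vmul_add, ι_mul, vmul_mul, add_assoc]
  one_mul x := by
    refine G168.ext ?_ (one_mul _)
    show vmul 0 (ι x.h) + x.b = x.b
    rw [vmul_zero, zero_add]
  mul_one x := by
    refine G168.ext ?_ (mul_one _)
    show vmul x.b (ι 1) + 0 = x.b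
    rw [ι_one, vmul_one, add_zero]
  inv_mul_cancel x := by
    refine G168.ext ?_ (inv_mul_cancel _)
    show vmul (-vmul x.b (ι x.h⁻¹)) (ι x.h) + x.b = 0
    have hn : ∀ (v : V3) (A : M3), vmul (-v) A = -vmul v A := fun v A =>
      eq_neg_of_add_eq_zero_left (by rw [← vmul_add, neg_add_cancel, vmul_zero])
    rw [hn, ← vmul_mul, ← ι_mul, inv_mul_cancel, ι_one, vmul_one, neg_add_cancel]

/-- Projection on the group of order 21. -/
def proj : G168 →* Diag D21 where
  toFun x := x.h
  map_one' := rfl
  map_mul' _ _ := rfl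

/-- The translations. -/
def incl : Multiplicative V3 →* G168 where
  toFun v := ⟨v.toAdd, 1⟩
  map_one' := rfl
  map_mul' v w := by
    refine G168.ext ?_ (one_mul _).symm
    show v.toAdd + w.toAdd = vmul v.toAdd (ι 1) + w.toAdd
    rw [ι_one, vmul_one]

instance : Group.IsSolvable G168 :=
  Group.isSolvable_of_ker_le_range incl proj (fun x hx => by
    have hh : x.h = 1 := hx
    exact ⟨Multiplicative.ofAdd x.b, G168.ext rfl hh.symm⟩)

/-- The order of an element. -/
def ord (x : G168) : ℕ :=
  if x = 1 then 1 else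
    let y := x * x
    if y = 1 then 2 else
      let z := x * y
      if z = 1 then 3 else if z * z = 1 then 6 else if x * (z * z) = 1 then 7 else 0

theorem facts : (∀ x : G168, ord x ≠ 0) ∧
    (Finset.univ.filter fun x : G168 => ord x = 1).card = 1 ∧
    (Finset.univ.filter fun x : G168 => ord x = 2).card = 7 ∧
    (Finset.univ.filter fun x : G168 => ord x = 3).card = 56 ∧
    (Finset.univ.filter fun x : G168 => ord x = 6).card = 56 ∧
    (Finset.univ.filter fun x : G168 => ord x = 7).card = 48 := by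
  decide +kernel

theorem orderOf_eq (x : G168) : orderOf x = ord x := by
  have h := facts.1 x
  unfold ord at h ⊢
  by_cases h1 : x = 1
  · simp [h1]
  by_cases h2 : x * x = 1
  · simp only [h1, h2, if_false, if_true]
    exact orderOf_eq_prime (by rw [sq]; exact h2) h1
  by_cases h3 : x * (x * x) = 1
  · simp only [h1, h2, h3, if_false, if_true]
    haveI : Fact (Nat.Prime 3) := ⟨Nat.prime_three⟩
    exact orderOf_eq_prime (by rw [pow_succ', sq]; exact h3) h1
  by_cases h6 : x * (x * x) * (x * (x * x)) = 1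
  · simp only [h1, h2, h3, h6, if_false, if_true]
    have hd : orderOf x ∣ 6 := orderOf_dvd_of_pow_eq_one (by
      rw [show (6 : ℕ) = (1 + (1 + 1)) + (1 + (1 + 1)) from rfl]
      simp only [pow_add, pow_one]; exact h6)
    have h0 : orderOf x ≤ 6 := Nat.le_of_dvd (by decide) hd
    have hp := pow_orderOf_eq_one x
    generalize orderOf x = k at hd h0 hp
    interval_cases k
    · simp at hd
    · exact absurd (by simpa using hp) h1
    · exact absurd (by simpa [sq] using hp) h2
    · exact absurd (by simpa [pow_succ', sq] using hp) h3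
    · omega
    · omega
    · rfl
  by_cases h7 : x * (x * (x * x) * (x * (x * x))) = 1
  · simp only [h1, h2, h3, h6, h7, if_false, if_true]
    haveI : Fact (Nat.Prime 7) := ⟨by decide⟩
    exact orderOf_eq_prime (by
      rw [show (7 : ℕ) = 1 + ((1 + (1 + 1)) + (1 + (1 + 1))) from rfl]
      simp only [pow_add, pow_one]; exact h7) h1
  · simp [h1, h2, h3, h6, h7] at h

/-- The number of solutions of `g ^ N = 1` in `AΓL₁(8)`. -/
def f (N : ℕ) : ℕ :=
  1 + (if 2 ∣ N then 7 else 0) + (if 3 ∣ N then 56 else 0) + (if 6 ∣ N then 56 else 0) +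
    (if 7 ∣ N then 48 else 0)

theorem card_pow (N : ℕ) : Nat.card {x : G168 // x ^ N = 1} = f N := by
  classical
  rw [Nat.card_eq_fintype_card, Fintype.card_subtype]
  have e : (Finset.univ : Finset G168).filter (fun x => x ^ N = 1) =
      Finset.univ.filter (fun x => ord x ∣ N) := Finset.filter_congr fun x _ => by
    rw [← orderOf_eq, orderOf_dvd_iff_pow_eq_one]
  rw [e]
  have hmem : ∀ x ∈ (Finset.univ : Finset G168).filter (fun x => ord x ∣ N),
      ord x ∈ ({1, 2, 3, 6, 7} : Finset ℕ) := by
    intro x _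
    have h := facts.1 x
    unfold ord at h ⊢
    simp only
    split_ifs at h ⊢ <;> simp_all
  rw [Finset.card_eq_sum_card_fiberwise hmem]
  have key : ∀ k,
      (((Finset.univ : Finset G168).filter fun x => ord x ∣ N).filter fun x => ord x = k).card =
      if k ∣ N then ((Finset.univ : Finset G168).filter fun x => ord x = k).card else 0 := by
    intro k
    rw [Finset.filter_filter]
    split_ifs with h
    · exact congrArg Finset.card (Finset.filter_congr fun x _ =>
        ⟨fun h' => h'.2, fun h' => ⟨h' ▸ h, h'⟩⟩)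
    · rw [Finset.card_eq_zero, Finset.filter_eq_empty_iff]
      rintro x - ⟨hd, rfl⟩
      exact h hd
  simp only [Finset.sum_insert (show (1 : ℕ) ∉ ({2, 3, 6, 7} : Finset ℕ) by decide),
    Finset.sum_insert (show (2 : ℕ) ∉ ({3, 6, 7} : Finset ℕ) by decide),
    Finset.sum_insert (show (3 : ℕ) ∉ ({6, 7} : Finset ℕ) by decide),
    Finset.sum_insert (show (6 : ℕ) ∉ ({7} : Finset ℕ) by decide), Finset.sum_singleton,
    key, facts.2.1, facts.2.2.1, facts.2.2.2.1, facts.2.2.2.2.1, facts.2.2.2.2.2, f, one_dvd,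
    if_true]
  omega

end Aff

end CfsgLib.OrderType
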