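import Mathlib.Data.ZMod.Basic
import Mathlib.GroupTheory.Solvable
import Mathlib.Algebra.BigOperators.Pi
import Mathlib.Data.Fintype.BigOperators
import Mathlib.Data.Fintype.Pi
import Mathlib.Tactic.Ring
import Mathlib.Algebra.BigOperators.Fin
import Mathlib.SetTheory.Cardinal.Finite

/-!
Semidirect products of a product of cyclic groups with a cyclic group acting coordinatewise, with
a computable formula for the number of solutions of `g ^ N = 1`.
-/

set_option autoImplicit false
set_option linter.style.haveILetI false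

namespace CfsgLib.OrderType

/-- Data: the two acting orders and triples (modulus, first multiplier, second multiplier). -/
structure Dat where
  m : ℕ
  m' : ℕ
  l : List (ℕ × ℕ × ℕ)

/-- Validity of the data. -/
def Dat.Ok (D : Dat) : Prop :=
  0 < D.m ∧ 0 < D.m' ∧ ∀ p ∈ D.l, 0 < p.1 ∧ p.2.1 ^ D.m % p.1 = 1 % p.1 ∧
    p.2.2 ^ D.m' % p.1 = 1 % p.1

instance (D : Dat) : Decidable D.Ok := by unfold Dat.Ok; infer_instance

/-- The carrier. -/
@[ext] structure Diag (D : Dat) [Fact D.Ok] where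
  v : ∀ i : Fin D.l.length, ZMod (D.l[i]).1
  a : ZMod D.m × ZMod D.m'

namespace Diag

variable {D : Dat} [hD : Fact D.Ok]

instance : NeZero D.m := ⟨hD.out.1.ne'⟩

instance : NeZero D.m' := ⟨hD.out.2.1.ne'⟩

instance (i : Fin D.l.length) : NeZero (D.l[i]).1 :=
  ⟨(hD.out.2.2 _ (List.getElem_mem _)).1.ne'⟩

/-- The multiplier of coordinate `i` attached to `a`. -/
def c (a : ZMod D.m × ZMod D.m') (i : Fin D.l.length) : ZMod (D.l[i]).1 :=
  ((D.l[i]).2.1 : ZMod (D.l[i]).1) ^ a.1.val * ((D.l[i]).2.2 : ZMod (D.l[i]).1) ^ a.2.val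

theorem pow_m (i : Fin D.l.length) : ((D.l[i]).2.1 : ZMod (D.l[i]).1) ^ D.m = 1 := by
  have h := (hD.out.2.2 _ (List.getElem_mem (i.isLt))).2.1
  have h2 : (((D.l[i]).2.1 ^ D.m : ℕ) : ZMod (D.l[i]).1) = ((1 : ℕ) : ZMod (D.l[i]).1) :=
    (ZMod.natCast_eq_natCast_iff' _ _ _).2 h
  simpa using h2

theorem pow_m' (i : Fin D.l.length) : ((D.l[i]).2.2 : ZMod (D.l[i]).1) ^ D.m' = 1 := by
  have h := (hD.out.2.2 _ (List.getElem_mem (i.isLt))).2.2
  have h2 : (((D.l[i]).2.2 ^ D.m' : ℕ) : ZMod (D.l[i]).1) = ((1 : ℕ) : ZMod (D.l[i]).1) :=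
    (ZMod.natCast_eq_natCast_iff' _ _ _).2 h
  simpa using h2

theorem red {R : Type*} [Monoid R] {x : R} {m : ℕ} (h : x ^ m = 1) (k : ℕ) : x ^ (k % m) = x ^ k := by
  conv_rhs => rw [← Nat.div_add_mod k m, pow_add, pow_mul, h, one_pow, one_mul]

theorem c_zero (i : Fin D.l.length) : c (0 : ZMod D.m × ZMod D.m') i = 1 := by simp [c]

theorem c_add (a b : ZMod D.m × ZMod D.m') (i : Fin D.l.length) : c (a + b) i = c a i * c b i := by
  rw [c, c, c, Prod.fst_add, Prod.snd_add, ZMod.val_add, ZMod.val_add, red (pow_m i),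
    red (pow_m' i), pow_add, pow_add]
  ring

instance : Mul (Diag D) := ⟨fun x y => ⟨fun i => x.v i + c x.a i * y.v i, x.a + y.a⟩⟩
instance : One (Diag D) := ⟨⟨fun _ => 0, 0⟩⟩
instance : Inv (Diag D) := ⟨fun x => ⟨fun i => -(c (-x.a) i * x.v i), -x.a⟩⟩

@[simp] theorem mul_v (x y : Diag D) (i : Fin D.l.length) :
    (x * y).v i = x.v i + c x.a i * y.v i := rfl
@[simp] theorem mul_a (x y : Diag D) : (x * y).a = x.a + y.a := rfl
@[simp] theorem one_v (i : Fin D.l.length) : (1 : Diag D).v i = 0 := rfl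
@[simp] theorem one_a : (1 : Diag D).a = 0 := rfl
@[simp] theorem inv_v (x : Diag D) (i : Fin D.l.length) :
    (x⁻¹).v i = -(c (-x.a) i * x.v i) := rfl
@[simp] theorem inv_a (x : Diag D) : (x⁻¹).a = -x.a := rfl

instance : Group (Diag D) where
  mul_assoc x y z := by
    refine Diag.ext (funext fun i => ?_) ?_
    · simp only [mul_v, mul_a, c_add]; ring
    · simp only [mul_a]; ring
  one_mul x := by
    refine Diag.ext (funext fun i => ?_) ?_
    · simp [c_zero]
    · simp
  mul_one x := by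
    refine Diag.ext (funext fun i => ?_) ?_
    · simp
    · simp
  inv_mul_cancel x := by
    refine Diag.ext (funext fun i => ?_) ?_
    · simp
    · simp

/-- Coordinates. -/
def toProd : Diag D ≃ (∀ i : Fin D.l.length, ZMod (D.l[i]).1) × (ZMod D.m × ZMod D.m') where
  toFun x := (x.v, x.a)
  invFun p := ⟨p.1, p.2⟩
  left_inv _ := rfl
  right_inv _ := rfl

instance : Finite (Diag D) := Finite.of_equiv _ (toProd (D := D)).symm

/-- The projection to the acting group. -/
def proj : Diag D →* Multiplicative (ZMod D.m × ZMod D.m') where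
  toFun x := Multiplicative.ofAdd x.a
  map_one' := rfl
  map_mul' _ _ := rfl

/-- The normal abelian subgroup. -/
def incl : Multiplicative (∀ i : Fin D.l.length, ZMod (D.l[i]).1) →* Diag D where
  toFun v := ⟨v.toAdd, 0⟩
  map_one' := rfl
  map_mul' v w := by
    refine Diag.ext (funext fun i => ?_) ?_
    · simp [c_zero]
    · simp

instance : Group.IsSolvable (Diag D) :=
  Group.isSolvable_of_ker_le_range incl proj (fun x hx => by
    have ha : x.a = 0 := hx
    exact ⟨Multiplicative.ofAdd x.v, Diag.ext rfl ha.symm⟩)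

theorem c_nsmul (a : ZMod D.m × ZMod D.m') (N : ℕ) (i : Fin D.l.length) : c (N • a) i = c a i ^ N := by
  induction N with
  | zero => simp [c_zero]
  | succ N ih => rw [succ_nsmul, c_add, ih, pow_succ]

/-- Geometric sums. -/
def geo {R : Type*} [Semiring R] (c : R) : ℕ → R
  | 0 => 0
  | N + 1 => 1 + c * geo c N

theorem pow_eq (x : Diag D) (N : ℕ) :
    x ^ N = ⟨fun i => geo (c x.a i) N * x.v i, N • x.a⟩ := by
  induction N with
  | zero =>
    rw [pow_zero]
    refine Diag.ext (funext fun i => ?_) ?_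
    · simp [geo]
    · simp
  | succ N ih =>
    rw [pow_succ', ih]
    refine Diag.ext (funext fun i => ?_) ?_
    · simp only [mul_v, geo]; ring
    · simp only [mul_a, succ_nsmul]
      exact add_comm _ _

end Diag

/-- Natural number geometric sum modulo `n`. -/
def geoN (n c : ℕ) : ℕ → ℕ
  | 0 => 0
  | N + 1 => (1 + c * geoN n c N) % n

/-- The number of solutions of `g ^ N = 1`. -/
def cnt (D : Dat) (N : ℕ) : ℕ :=
  ((List.range D.m).map fun a => ((List.range D.m').map fun b =>
    if N * a % D.m = 0 ∧ N * b % D.m' = 0 then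
    (D.l.map fun p => let g := geoN p.1 (p.2.1 ^ a * p.2.2 ^ b % p.1) N
      ((List.range p.1).countP fun x => g * x % p.1 == 0)).prod else 0).sum).sum

theorem card_ker (n : ℕ) [NeZero n] (s : ℕ) :
    Nat.card {x : ZMod n // (s : ZMod n) * x = 0} =
      (List.range n).countP fun x => s * x % n == 0 := by
  have e : {x : ZMod n // (s : ZMod n) * x = 0} ≃ {x : Fin n // s * (x : ℕ) % n = 0} :=
    (ZMod.finEquiv n).toEquiv.symm.subtypeEquiv fun x => by
      have hx : ((((ZMod.finEquiv n).symm x : Fin n) : ℕ) : ZMod n) = x := by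
        obtain ⟨k, hk⟩ : ∃ k, n = k + 1 := ⟨n - 1, (Nat.succ_pred_eq_of_ne_zero (NeZero.ne n)).symm⟩
        subst hk
        exact ZMod.natCast_zmod_val x
      conv_lhs => rw [← hx]
      rw [← Nat.cast_mul, ZMod.natCast_eq_zero_iff, Nat.dvd_iff_mod_eq_zero]
      rfl
  rw [Nat.card_congr e, Nat.card_eq_fintype_card, Fintype.card_subtype]
  have h1 : (Finset.univ.filter fun x : Fin n => s * (x : ℕ) % n = 0).card =
      ((Finset.range n).filter fun x => s * x % n = 0).card := by
    refine Finset.card_bij (fun x _ => (x : ℕ)) (fun x hx => ?_) (fun x _ y _ h => Fin.ext h)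
      (fun x hx => ?_)
    · simp only [Finset.mem_filter, Finset.mem_univ, true_and] at hx
      simp [hx, x.isLt]
    · simp only [Finset.mem_filter, Finset.mem_range] at hx
      exact ⟨⟨x, hx.1⟩, by simp [hx.2], rfl⟩
  rw [h1]
  simp [Finset.card_def, Finset.range, Multiset.range, List.countP_eq_length_filter]
  rfl

namespace Diag

variable {D : Dat} [hD : Fact D.Ok]

theorem geo_cast (n c : ℕ) (N : ℕ) : geo (c : ZMod n) N = (geoN n c N : ZMod n) := by
  induction N with
  | zero => simp [geo, geoN]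
  | succ N ih => simp [geo, geoN, ih]

theorem card_pow_eq_one (N : ℕ) : Nat.card {x : Diag D // x ^ N = 1} = cnt D N := by
  classical
  have e : {x : Diag D // x ^ N = 1} ≃ Σ a : {a : ZMod D.m × ZMod D.m' // N • a = 0},
      ∀ i : Fin D.l.length, {x : ZMod (D.l[i]).1 // geo (c a.1 i) N * x = 0} :=
    { toFun := fun x => ⟨⟨x.1.a, by have := congrArg Diag.a x.2; rwa [pow_eq] at this⟩,
        fun i => ⟨x.1.v i, by
          have := congrFun (congrArg Diag.v x.2) i; rwa [pow_eq] at this⟩⟩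
      invFun := fun p => ⟨⟨fun i => (p.2 i).1, p.1.1⟩, by
        rw [pow_eq]; exact Diag.ext (funext fun i => (p.2 i).2) p.1.2⟩
      left_inv := fun _ => rfl
      right_inv := fun _ => rfl }
  let F : ℕ → ℕ → ℕ := fun a b => (D.l.map fun p => let g := geoN p.1 (p.2.1 ^ a * p.2.2 ^ b % p.1) N
    ((List.range p.1).countP fun x => g * x % p.1 == 0)).prod
  have key : ∀ a : ZMod D.m × ZMod D.m', (∏ i : Fin D.l.length,
      Nat.card {x : ZMod (D.l[i]).1 // geo (c a i) N * x = 0}) = F a.1.val a.2.val := by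
    intro a
    simp only [F]
    rw [← Fin.prod_univ_fun_getElem]
    refine Finset.prod_congr rfl fun i _ => ?_
    have hc : c a i = (((D.l[i]).2.1 ^ a.1.val * (D.l[i]).2.2 ^ a.2.val % (D.l[i]).1 : ℕ) :
        ZMod (D.l[i]).1) := by simp [c]
    rw [hc, geo_cast, card_ker]
    rfl
  haveI : Fintype {a : ZMod D.m × ZMod D.m' // N • a = 0} := Fintype.ofFinite _
  rw [Nat.card_congr e, Nat.card_sigma]
  simp only [Nat.card_pi, key]
  rw [← Finset.sum_subtype (Finset.univ.filter fun a : ZMod D.m × ZMod D.m' => N • a = 0) (by simp)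
    (f := fun a : ZMod D.m × ZMod D.m' => F a.1.val a.2.val), Finset.sum_filter,
    Fintype.sum_prod_type, cnt, ← List.sum_toFinset _ List.nodup_range]
  refine Finset.sum_bij (fun a _ => a.val) (fun a _ => by simp [ZMod.val_lt])
    (fun a _ b _ h => ZMod.val_injective _ h)
    (fun b hb => ⟨(b : ZMod D.m), Finset.mem_univ _, ZMod.val_natCast_of_lt (by simpa using hb)⟩)
    (fun a _ => ?_)
  rw [← List.sum_toFinset _ List.nodup_range]
  refine Finset.sum_bij (fun b _ => b.val) (fun b _ => by simp [ZMod.val_lt])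
    (fun a _ b _ h => ZMod.val_injective _ h)
    (fun b hb => ⟨(b : ZMod D.m'), Finset.mem_univ _, ZMod.val_natCast_of_lt (by simpa using hb)⟩)
    (fun b _ => ?_)
  refine if_congr ?_ rfl rfl
  rw [Prod.ext_iff]
  refine and_congr ?_ ?_
  · show N • a = 0 ↔ _
    rw [nsmul_eq_mul]
    conv_lhs => rw [← ZMod.natCast_zmod_val a, ← Nat.cast_mul, ZMod.natCast_eq_zero_iff,
      Nat.dvd_iff_mod_eq_zero]
  · show N • b = 0 ↔ _
    rw [nsmul_eq_mul]
    conv_lhs => rw [← ZMod.natCast_zmod_val b, ← Nat.cast_mul, ZMod.natCast_eq_zero_iff,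
      Nat.dvd_iff_mod_eq_zero]

end Diag

end CfsgLib.OrderType
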