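import Cfsg.Agent.OrderType.Small
import Mathlib.GroupTheory.Solvable
import Mathlib.GroupTheory.Nilpotent

/-!
Solution counts in products and powers.
-/

set_option autoImplicit false
set_option linter.style.haveILetI false

namespace CfsgLib.OrderType

theorem Cnt.prod {X Y : Type} [Monoid X] [Monoid Y] {f g : ℕ → ℕ} (h : Cnt X f) (h' : Cnt Y g) :
    Cnt (X × Y) (fun N => f N * g N) := by
  intro N hN
  show _ = f N * g N
  rw [← h N hN, ← h' N hN, ← Nat.card_prod]
  exact Nat.card_congr
    { toFun := fun z => (⟨z.1.1, (Prod.ext_iff.1 z.2).1⟩, ⟨z.1.2, (Prod.ext_iff.1 z.2).2⟩)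
      invFun := fun z => ⟨(z.1.1, z.2.1), Prod.ext z.1.2 z.2.2⟩
      left_inv := fun _ => rfl
      right_inv := fun _ => rfl }

theorem Cnt.pow {X : Type} [Monoid X] {f : ℕ → ℕ} (h : Cnt X f) (e : ℕ) :
    Cnt (Fin e → X) (fun N => f N ^ e) := by
  intro N hN
  have hE : {x : Fin e → X // x ^ N = 1} ≃ (Fin e → {x : X // x ^ N = 1}) :=
    { toFun := fun z i => ⟨z.1 i, congrFun z.2 i⟩
      invFun := fun z => ⟨fun i => (z i).1, funext fun i => (z i).2⟩
      left_inv := fun _ => rfl
      right_inv := fun _ => rfl }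
  rw [Nat.card_congr hE, Nat.card_fun, h N hN, Nat.card_fin]

theorem Cnt.all {X : Type} [Group X] [Finite X] {f : ℕ → ℕ} (h : Cnt X f) (hf : f 168 = f 0)
    (n : ℕ) : Nat.card {x : X // x ^ n = 1} = f (Nat.gcd n 168) := by
  haveI := Fintype.ofFinite X
  classical
  have hall : ∀ x : X, x ^ 168 = 1 := by
    have h1 := h 168 (Or.inl dvd_rfl)
    rw [hf, ← h 0 (Or.inr rfl)] at h1
    simp only [Nat.card_eq_fintype_card, pow_zero, Fintype.card_subtype, Finset.filter_true] at h1
    have h2 := Finset.eq_univ_of_card _ h1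
    intro x
    have h3 : x ∈ (Finset.univ : Finset X).filter (fun x => x ^ 168 = 1) := by
      rw [h2]; exact Finset.mem_univ x
    exact (Finset.mem_filter.1 h3).2
  rw [← h _ (Or.inl (Nat.gcd_dvd_right n 168))]
  exact Nat.card_congr (Equiv.subtypeEquivRight fun x =>
    ⟨fun hx => pow_gcd_eq_one.2 ⟨hx, hall x⟩, fun hx => (pow_gcd_eq_one.1 hx).1⟩)

theorem isSolvable_fun {X : Type} [Group X] [hX : Group.IsSolvable X] (e : ℕ) :
    Group.IsSolvable (Fin e → X) := by
  induction e with
  | zero =>
    haveI : Subsingleton (Fin 0 → X) := inferInstance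
    infer_instance
  | succ e ih =>
    let φ : (Fin (e + 1) → X) →* X × (Fin e → X) :=
      { toFun := fun z => (z 0, fun i => z i.succ)
        map_one' := rfl
        map_mul' := fun _ _ => rfl }
    have hφ : Function.Injective φ := fun a b hab => by
      funext i
      refine Fin.cases ?_ (fun j => ?_) i
      · exact congrArg Prod.fst hab
      · exact congrFun (congrArg Prod.snd hab) j
    haveI := ih
    exact Group.isSolvable_of_isSolvable_injective hφ

instance {X : Type} [Group X] [Group.IsSolvable X] (e : ℕ) : Group.IsSolvable (Fin e → X) :=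
  isSolvable_fun e

end CfsgLib.OrderType
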