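import Cfsg.Agent.OrderType.Diag
import Cfsg.Agent.OrderType.Affine
import Cfsg.Agent.OrderType.Products

/-!
A solvable and a non-solvable group with equal numbers of solutions of `g ^ N = 1`.
-/

set_option autoImplicit false
set_option maxRecDepth 100000

namespace CfsgLib.OrderType.Pair

/-- Data of a factor. -/
abbrev D0 : Dat := ⟨7, 1, []⟩

instance : Fact D0.Ok := ⟨by decide +kernel⟩

/-- Data of a factor. -/
abbrev D1 : Dat := ⟨2, 1, [(4, 3, 1)]⟩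

instance : Fact D1.Ok := ⟨by decide +kernel⟩

/-- Data of a factor. -/
abbrev D2 : Dat := ⟨2, 1, [(7, 1, 1)]⟩

instance : Fact D2.Ok := ⟨by decide +kernel⟩

/-- Data of a factor. -/
abbrev D3 : Dat := ⟨2, 1, [(7, 6, 1)]⟩

instance : Fact D3.Ok := ⟨by decide +kernel⟩

/-- Data of a factor. -/
abbrev D4 : Dat := ⟨2, 1, [(3, 1, 1), (3, 1, 1)]⟩

instance : Fact D4.Ok := ⟨by decide +kernel⟩

/-- Data of a factor. -/
abbrev D5 : Dat := ⟨4, 1, [(2, 1, 1), (3, 2, 1)]⟩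

instance : Fact D5.Ok := ⟨by decide +kernel⟩

/-- Data of a factor. -/
abbrev D6 : Dat := ⟨2, 1, [(3, 1, 1), (4, 1, 1)]⟩

instance : Fact D6.Ok := ⟨by decide +kernel⟩

/-- Data of a factor. -/
abbrev D7 : Dat := ⟨4, 1, [(7, 6, 1)]⟩

instance : Fact D7.Ok := ⟨by decide +kernel⟩

/-- Data of a factor. -/
abbrev D8 : Dat := ⟨2, 1, [(4, 3, 1), (7, 6, 1)]⟩

instance : Fact D8.Ok := ⟨by decide +kernel⟩

/-- Data of a factor. -/
abbrev D9 : Dat := ⟨3, 1, [(4, 1, 1), (7, 2, 1)]⟩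

instance : Fact D9.Ok := ⟨by decide +kernel⟩

/-- Data of a factor. -/
abbrev D10 : Dat := ⟨12, 1, [(2, 1, 1), (7, 3, 1)]⟩

instance : Fact D10.Ok := ⟨by decide +kernel⟩

/-- Data of a factor. -/
abbrev D11 : Dat := ⟨2, 1, [(3, 1, 1), (7, 6, 1), (7, 6, 1)]⟩

instance : Fact D11.Ok := ⟨by decide +kernel⟩

/-- Data of a factor. -/
abbrev D12 : Dat := ⟨6, 1, [(7, 3, 1), (7, 6, 1)]⟩

instance : Fact D12.Ok := ⟨by decide +kernel⟩

/-- Data of a factor. -/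
abbrev D13 : Dat := ⟨6, 1, [(7, 3, 1), (8, 3, 1)]⟩

instance : Fact D13.Ok := ⟨by decide +kernel⟩

/-- Data of a factor. -/
abbrev D14 : Dat := ⟨2, 1, [(3, 2, 1), (4, 3, 1), (4, 3, 1), (4, 3, 1)]⟩

instance : Fact D14.Ok := ⟨by decide +kernel⟩

/-- Data of a factor. -/
abbrev D15 : Dat := ⟨12, 1, [(7, 3, 1), (7, 6, 1)]⟩

instance : Fact D15.Ok := ⟨by decide +kernel⟩

/-- Data of a factor. -/
abbrev D16 : Dat := ⟨6, 1, [(4, 1, 1), (4, 3, 1), (7, 3, 1)]⟩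

instance : Fact D16.Ok := ⟨by decide +kernel⟩

/-- Data of a factor. -/
abbrev D17 : Dat := ⟨2, 6, [(7, 1, 3), (8, 5, 3)]⟩

instance : Fact D17.Ok := ⟨by decide +kernel⟩

theorem cntDiag (D : Dat) [Fact D.Ok] : Cnt (Diag D) (cnt D) := fun N _ => Diag.card_pow_eq_one N

/-- The solvable group. -/
abbrev SolvSide : Type := (Fin 53 → Diag D0) × (Fin 10 → Diag D1) × (Fin 3 → Diag D3) × (Fin 3 → Diag D5) × (Fin 1 → Diag D7) × (Fin 6 → Diag D10) × (Fin 6 → Aff.G168) × (Fin 4 → Diag D11) × (Fin 3 → Diag D14) × (Fin 6 → Diag D16) × (Fin 6 → Diag D17)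

/-- The non-solvable group. -/
abbrev NonSide : Type := (Fin 6 → M3ˣ) × ((Fin 51 → Diag D2) × (Fin 2 → Diag D4) × (Fin 6 → Diag D6) × (Fin 10 → Diag D8) × (Fin 8 → Diag D9) × (Fin 2 → Diag D12) × (Fin 6 → Diag D13) × (Fin 2 → Diag D15))

/-- Its counts. -/
def fS (N : ℕ) : ℕ := ((cnt D0) N ^ 53 * ((cnt D1) N ^ 10 * ((cnt D3) N ^ 3 * ((cnt D5) N ^ 3 * ((cnt D7) N ^ 1 * ((cnt D10) N ^ 6 * (Aff.f N ^ 6 * ((cnt D11) N ^ 4 * ((cnt D14) N ^ 3 * ((cnt D16) N ^ 6 * (cnt D17) N ^ 6))))))))))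

/-- Its counts. -/
def fN (N : ℕ) : ℕ := M3.f N ^ 6 * (((cnt D2) N ^ 51 * ((cnt D4) N ^ 2 * ((cnt D6) N ^ 6 * ((cnt D8) N ^ 10 * ((cnt D9) N ^ 8 * ((cnt D12) N ^ 2 * ((cnt D13) N ^ 6 * (cnt D15) N ^ 2))))))))

theorem cnt_solv : Cnt SolvSide fS := (Cnt.prod (Cnt.pow (cntDiag D0) 53) (Cnt.prod (Cnt.pow (cntDiag D1) 10) (Cnt.prod (Cnt.pow (cntDiag D3) 3) (Cnt.prod (Cnt.pow (cntDiag D5) 3) (Cnt.prod (Cnt.pow (cntDiag D7) 1) (Cnt.prod (Cnt.pow (cntDiag D10) 6) (Cnt.prod (Cnt.pow (fun N _ => Aff.card_pow N) 6) (Cnt.prod (Cnt.pow (cntDiag D11) 4) (Cnt.prod (Cnt.pow (cntDiag D14) 3) (Cnt.prod (Cnt.pow (cntDiag D16) 6) (Cnt.pow (cntDiag D17) 6)))))))))))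

theorem cnt_non : Cnt NonSide fN := Cnt.prod (Cnt.pow (fun N _ => M3.card_pow N) 6) (Cnt.prod (Cnt.pow (cntDiag D2) 51) (Cnt.prod (Cnt.pow (cntDiag D4) 2) (Cnt.prod (Cnt.pow (cntDiag D6) 6) (Cnt.prod (Cnt.pow (cntDiag D8) 10) (Cnt.prod (Cnt.pow (cntDiag D9) 8) (Cnt.prod (Cnt.pow (cntDiag D12) 2) (Cnt.prod (Cnt.pow (cntDiag D13) 6) (Cnt.pow (cntDiag D15) 2))))))))

theorem values : ∀ N ∈ [0, 1, 2, 3, 4, 6, 7, 8, 12, 14, 21, 24, 28, 42, 56, 84, 168], fS N = fN N ∧ (N = 168 → fS N = fS 0) := by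
  decide +kernel

theorem card_eq (n : ℕ) :
    Nat.card {x : SolvSide // x ^ n = 1} = Nat.card {x : NonSide // x ^ n = 1} := by
  have h168 := values 168 (by decide)
  have h0 := values 0 (by decide)
  rw [cnt_solv.all (h168.2 rfl) n, cnt_non.all (by rw [← h168.1, h168.2 rfl, h0.1]) n]
  have hd : Nat.gcd n 168 ∈ Nat.divisors 168 := Nat.mem_divisors.2 ⟨Nat.gcd_dvd_right _ _, by decide⟩
  have key : ∀ d ∈ Nat.divisors 168, d ∈ [0, 1, 2, 3, 4, 6, 7, 8, 12, 14, 21, 24, 28, 42, 56, 84, 168] := by decide +kernel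
  exact (values _ (key _ hd)).1

theorem solvable_solv : Group.IsSolvable SolvSide := by infer_instance

theorem not_solvable_non : ¬ Group.IsSolvable NonSide := by
  intro h
  refine M3.not_isSolvable ?_
  let π : NonSide →* M3ˣ :=
    { toFun := fun z => z.1 0, map_one' := rfl, map_mul' := fun _ _ => rfl }
  exact Group.isSolvable_of_surjective (f := π) fun u => ⟨(fun _ => u, 1), rfl⟩

end CfsgLib.OrderType.Pair
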