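import Cfsg.Agent.OrderType.Diag
import Mathlib.GroupTheory.OrderOfElement
import Mathlib.Algebra.Field.ZMod
import Mathlib.GroupTheory.Commutator.Basic
import Mathlib.GroupTheory.Solvable

/-!
The groups `GL₃(2)` and `AΓL₁(8)` with their numbers of solutions of `g ^ N = 1`.
-/

set_option autoImplicit false
set_option linter.style.haveILetI false

namespace CfsgLib.OrderType

open scoped commutatorElement

/-- Solution counting for exponents dividing `168`, and `N = 0`. -/
def Cnt (X : Type) [Monoid X] (f : ℕ → ℕ) : Prop :=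
  ∀ N, (N ∣ 168 ∨ N = 0) → Nat.card {x : X // x ^ N = 1} = f N

/-- Row vectors of length 3 over the field with two elements. -/
abbrev V3 : Type := ZMod 2 × ZMod 2 × ZMod 2

/-- `3 × 3` matrices over the field with two elements, by rows. -/
@[ext] structure M3 where
  r₀ : V3
  r₁ : V3
  r₂ : V3
deriving DecidableEq

namespace M3

/-- Coordinates. -/
def toProd : M3 ≃ V3 × V3 × V3 where
  toFun A := (A.r₀, A.r₁, A.r₂)
  invFun p := ⟨p.1, p.2.1, p.2.2⟩
  left_inv _ := rfl
  right_inv _ := rfl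

instance : Fintype M3 := Fintype.ofEquiv _ toProd.symm

/-- A row vector times a matrix. -/
def vmul (x : V3) (A : M3) : V3 :=
  (x.1 * A.r₀.1 + x.2.1 * A.r₁.1 + x.2.2 * A.r₂.1,
   x.1 * A.r₀.2.1 + x.2.1 * A.r₁.2.1 + x.2.2 * A.r₂.2.1,
   x.1 * A.r₀.2.2 + x.2.1 * A.r₁.2.2 + x.2.2 * A.r₂.2.2)

theorem vmul_add (x y : V3) (A : M3) : vmul (x + y) A = vmul x A + vmul y A := by
  simp only [vmul, Prod.fst_add, Prod.snd_add, Prod.mk_add_mk, Prod.mk.injEq]
  refine ⟨?_, ?_, ?_⟩ <;> ring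

instance : Mul M3 := ⟨fun A B => ⟨vmul A.r₀ B, vmul A.r₁ B, vmul A.r₂ B⟩⟩
instance : One M3 := ⟨⟨(1, 0, 0), (0, 1, 0), (0, 0, 1)⟩⟩

theorem vmul_mul (x : V3) (A B : M3) : vmul x (A * B) = vmul (vmul x A) B := by
  show vmul x ⟨vmul A.r₀ B, vmul A.r₁ B, vmul A.r₂ B⟩ = _
  simp only [vmul, Prod.mk.injEq]
  refine ⟨?_, ?_, ?_⟩ <;> ring

theorem vmul_one (x : V3) : vmul x 1 = x := by
  show vmul x ⟨(1, 0, 0), (0, 1, 0), (0, 0, 1)⟩ = x
  simp [vmul]

instance : Monoid M3 where
  mul_assoc A B C := M3.ext (vmul_mul _ _ _).symm (vmul_mul _ _ _).symm (vmul_mul _ _ _).symm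
  one_mul A := by
    show (⟨vmul (1, 0, 0) A, vmul (0, 1, 0) A, vmul (0, 0, 1) A⟩ : M3) = A
    simp [vmul]
  mul_one A := M3.ext (vmul_one _) (vmul_one _) (vmul_one _)

instance : Finite M3ˣ := Finite.of_injective (fun u : M3ˣ => (u : M3)) Units.val_injective

/-- The order of an element of order `1, 2, 3, 4, 7`, else `0`. -/
def ord (A : M3) : ℕ :=
  if A = 1 then 1 else
    let B := A * A
    if B = 1 then 2 else
      let C := A * B
      if C = 1 then 3 else
        let D := B * B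
        if D = 1 then 4 else if C * D = 1 then 7 else 0

theorem ord_spec (A : M3) (h : ord A ≠ 0) : orderOf A = ord A := by
  unfold ord at h ⊢
  by_cases h1 : A = 1
  · simp [h1]
  by_cases h2 : A * A = 1
  · simp only [h1, h2, if_false, if_true]
    exact orderOf_eq_prime (by rw [sq]; exact h2) h1
  by_cases h3 : A * (A * A) = 1
  · simp only [h1, h2, h3, if_false, if_true]
    haveI : Fact (Nat.Prime 3) := ⟨Nat.prime_three⟩
    exact orderOf_eq_prime (by rw [pow_succ', sq]; exact h3) h1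
  by_cases h4 : A * A * (A * A) = 1
  · simp only [h1, h2, h3, h4, if_false, if_true]
    haveI : Fact (Nat.Prime 2) := ⟨Nat.prime_two⟩
    have := orderOf_eq_prime_pow (x := A) (p := 2) (n := 1) (by rw [pow_one, sq]; exact h2)
      (by rw [show 2 ^ (1 + 1) = 2 + 2 from rfl, pow_add, sq]; exact h4)
    simpa using this
  by_cases h7 : A * (A * A) * (A * A * (A * A)) = 1
  · simp only [h1, h2, h3, h4, h7, if_false, if_true]
    haveI : Fact (Nat.Prime 7) := ⟨by decide⟩
    exact orderOf_eq_prime (by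
      rw [show (7 : ℕ) = (1 + (1 + 1)) + ((1 + 1) + (1 + 1)) from rfl]
      simp only [pow_add, pow_one]; exact h7) h1
  · simp [h1, h2, h3, h4, h7] at h

theorem facts : (∀ A : M3, ord A ≠ 0 ∨ ∃ x : V3, x ≠ 0 ∧ vmul x A = 0) ∧
    (Finset.univ.filter fun A : M3 => ord A = 1).card = 1 ∧
    (Finset.univ.filter fun A : M3 => ord A = 2).card = 21 ∧
    (Finset.univ.filter fun A : M3 => ord A = 3).card = 56 ∧
    (Finset.univ.filter fun A : M3 => ord A = 4).card = 42 ∧
    (Finset.univ.filter fun A : M3 => ord A = 7).card = 48 := by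
  decide +kernel

theorem ord_ne_zero_iff (A : M3) : ord A ≠ 0 ↔ IsUnit A := by
  constructor
  · intro h
    exact IsUnit.of_pow_eq_one (ord_spec A h ▸ pow_orderOf_eq_one A) h
  · intro hu
    refine (facts.1 A).resolve_right ?_
    rintro ⟨x, hx, h0⟩
    obtain ⟨u, rfl⟩ := hu
    apply hx
    have h := congrArg (fun y => vmul y (↑u⁻¹ : M3)) h0
    rw [← vmul_mul, Units.mul_inv, vmul_one] at h
    rw [h]
    simp [vmul, Prod.ext_iff]

/-- The number of solutions of `g ^ N = 1` in `GL₃(2)`. -/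
def f (N : ℕ) : ℕ :=
  1 + (if 2 ∣ N then 21 else 0) + (if 3 ∣ N then 56 else 0) + (if 4 ∣ N then 42 else 0) +
    (if 7 ∣ N then 48 else 0)

theorem card_pow (N : ℕ) : Nat.card {u : M3ˣ // u ^ N = 1} = f N := by
  classical
  have e : {u : M3ˣ // u ^ N = 1} ≃ {A : M3 // ord A ≠ 0 ∧ ord A ∣ N} :=
    Equiv.ofBijective (fun u => ⟨(u.1 : M3), (ord_ne_zero_iff _).2 u.1.isUnit, by
        rw [← ord_spec _ ((ord_ne_zero_iff _).2 u.1.isUnit), orderOf_dvd_iff_pow_eq_one,
          ← Units.val_pow_eq_pow_val, u.2, Units.val_one]⟩)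
      ⟨fun u v h => Subtype.ext (Units.ext (congrArg Subtype.val h)), fun A => by
        obtain ⟨u, hu⟩ := (ord_ne_zero_iff _).1 A.2.1
        refine ⟨⟨u, Units.ext ?_⟩, Subtype.ext hu⟩
        rw [Units.val_pow_eq_pow_val, Units.val_one, ← orderOf_dvd_iff_pow_eq_one, hu,
          ord_spec _ A.2.1]
        exact A.2.2⟩
  rw [Nat.card_congr e, Nat.card_eq_fintype_card, Fintype.card_subtype]
  have hmem : ∀ A ∈ (Finset.univ : Finset M3).filter (fun A => ord A ≠ 0 ∧ ord A ∣ N),
      ord A ∈ ({1, 2, 3, 4, 7} : Finset ℕ) := by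
    intro A hA
    have h := (Finset.mem_filter.1 hA).2.1
    unfold ord at h ⊢
    simp only
    split_ifs at h ⊢ <;> simp_all
  rw [Finset.card_eq_sum_card_fiberwise hmem]
  have key : ∀ k, k ≠ 0 →
      (((Finset.univ : Finset M3).filter fun A => ord A ≠ 0 ∧ ord A ∣ N).filter fun A => ord A = k).card =
      if k ∣ N then ((Finset.univ : Finset M3).filter fun A => ord A = k).card else 0 := by
    intro k hk
    rw [Finset.filter_filter]
    split_ifs with h
    · exact congrArg Finset.card (Finset.filter_congr fun A _ =>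
        ⟨fun h' => h'.2, fun h' => ⟨⟨h' ▸ hk, h' ▸ h⟩, h'⟩⟩)
    · rw [Finset.card_eq_zero, Finset.filter_eq_empty_iff]
      rintro A - ⟨⟨-, hd⟩, rfl⟩
      exact h hd
  simp only [Finset.sum_insert (show (1 : ℕ) ∉ ({2, 3, 4, 7} : Finset ℕ) by decide),
    Finset.sum_insert (show (2 : ℕ) ∉ ({3, 4, 7} : Finset ℕ) by decide),
    Finset.sum_insert (show (3 : ℕ) ∉ ({4, 7} : Finset ℕ) by decide),
    Finset.sum_insert (show (4 : ℕ) ∉ ({7} : Finset ℕ) by decide), Finset.sum_singleton,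
    key 1 one_ne_zero, key 2 two_ne_zero, key 3 three_ne_zero, key 4 (by norm_num),
    key 7 (by norm_num), facts.2.1, facts.2.2.1, facts.2.2.2.1, facts.2.2.2.2.1, facts.2.2.2.2.2,
    f, one_dvd, if_true]
  omega

theorem not_isSolvable : ¬ Group.IsSolvable M3ˣ := by
  let A : M3 := ⟨(0, 0, 1), (0, 1, 0), (1, 0, 0)⟩
  let B : M3 := ⟨(0, 1, 0), (1, 1, 1), (0, 1, 1)⟩
  have hA : ord A ≠ 0 := by decide +kernel
  have hB : ord B ≠ 0 := by decide +kernel
  obtain ⟨a, ha⟩ := (ord_ne_zero_iff A).1 hA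
  obtain ⟨b, hb⟩ := (ord_ne_zero_iff B).1 hB
  have e1 : a = ⁅b * a * b * b, b * a * b * b * a⁆ := by
    rw [commutatorElement_def, eq_mul_inv_iff_mul_eq, eq_mul_inv_iff_mul_eq]
    refine Units.ext ?_
    simp only [Units.val_mul, ha, hb]
    decide +kernel
  have e2 : b = ⁅a * b * a * b * a, b * b * a * b⁆ := by
    rw [commutatorElement_def, eq_mul_inv_iff_mul_eq, eq_mul_inv_iff_mul_eq]
    refine Units.ext ?_
    simp only [Units.val_mul, ha, hb]
    decide +kernel
  have hmem : ∀ n, a ∈ derivedSeries M3ˣ n ∧ b ∈ derivedSeries M3ˣ n := by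
    intro n
    induction n with
    | zero => simp
    | succ n ih =>
      obtain ⟨x, y⟩ := ih
      rw [derivedSeries_succ]
      constructor
      · rw [e1]
        exact Subgroup.commutator_mem_commutator (mul_mem (mul_mem (mul_mem y x) y) y)
          (mul_mem (mul_mem (mul_mem (mul_mem y x) y) y) x)
      · rw [e2]
        exact Subgroup.commutator_mem_commutator (mul_mem (mul_mem (mul_mem (mul_mem x y) x) y) x)
          (mul_mem (mul_mem (mul_mem y y) x) y)
  intro h
  obtain ⟨n, hn⟩ := (Group.isSolvable_def M3ˣ).1 h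
  have h1 := (hmem n).1
  rw [hn, Subgroup.mem_bot] at h1
  rw [h1, Units.val_one] at ha
  exact absurd ha (by decide +kernel)

end M3

end CfsgLib.OrderType
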